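import Groth.Agent.InjFibre.Alg
import Groth.Agent.GeomProp.SmoothLocal
import Groth.Agent.RegLoc.Order

/-!
# Hypersurfaces cut out by an element with nonvanishing differential
-/

set_option autoImplicit false
set_option linter.style.haveILetI false

open TensorProduct IsLocalRing

namespace Groth.Agent.SmoothDiv

universe u

/-- A vector with nonzero image in `κ(q) ⊗ P`, `P` projective, is sent out of `q` by some functional. -/
theorem exists_functional {B P : Type u} [CommRing B] [AddCommGroup P] [Module B P] [Module.Projective B P]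
    (q : Ideal B) (K : Type u) [CommRing K] [Algebra B K] (hK : ∀ b ∈ q, algebraMap B K b = 0) (z : P)
    (hz : (1 : K) ⊗ₜ[B] z ≠ 0) : ∃ μ : P →ₗ[B] B, μ z ∉ q := by
  obtain ⟨s, hs⟩ := Module.Projective.out (R := B) (P := P)
  by_contra h
  push Not at h
  refine hz ?_
  rw [← hs z, Finsupp.linearCombination_apply, Finsupp.sum, TensorProduct.tmul_sum]
  refine Finset.sum_eq_zero fun i _ => ?_
  rw [← TensorProduct.smul_tmul, Algebra.smul_def, mul_one, id_eq]
  have : s z i ∈ q := h ((Finsupp.lapply i).comp s)
  rw [hK _ this, TensorProduct.zero_tmul]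

variable {R B : Type u} [CommRing R] [CommRing B] [Algebra R B] [Algebra.Smooth R B] (h : B)

/-- An element some derivative of which is a unit cuts out a smooth hypersurface. -/
theorem smooth_quotient (μ : Ω[B⁄R] →ₗ[B] B) (hμ : IsUnit (μ (KaehlerDifferential.D R B h))) :
    Algebra.Smooth R (B ⧸ Ideal.span {h}) := by
  let A := B ⧸ Ideal.span {h}
  have hfp : Algebra.FinitePresentation R A :=
    Algebra.FinitePresentation.quotient (Submodule.fg_span_singleton h)
  have hsurj : Function.Surjective (algebraMap B A) := Ideal.Quotient.mk_surjective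
  refine ⟨?_, hfp⟩
  rw [Algebra.FormallySmooth.iff_split_injection hsurj]
  obtain ⟨v, hv⟩ := hμ
  let lam : A ⊗[B] Ω[B⁄R] →ₗ[A] A :=
    LinearMap.liftBaseChange A ((Algebra.linearMap B A).comp ((↑v⁻¹ : B) • μ))
  let h' : RingHom.ker (algebraMap B A) := ⟨h, by
    rw [RingHom.mem_ker]
    exact Ideal.Quotient.eq_zero_iff_mem.mpr (Ideal.mem_span_singleton_self h)⟩
  let sp : A →ₗ[B] (RingHom.ker (algebraMap B A)).Cotangent :=
    Submodule.liftQ (Ideal.span {h}) (LinearMap.toSpanSingleton B _ (Ideal.toCotangent _ h')) (by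
      intro b hb
      obtain ⟨d, rfl⟩ := Ideal.mem_span_singleton'.mp hb
      rw [LinearMap.mem_ker, LinearMap.toSpanSingleton_apply, ← map_smul, Ideal.toCotangent_eq_zero, pow_two]
      exact Ideal.mul_mem_mul (Ideal.mul_mem_left _ d h'.2) h'.2)
  refine ⟨sp.comp (lam.restrictScalars B), ?_⟩
  refine LinearMap.ext fun z => ?_
  obtain ⟨⟨b, hb⟩, rfl⟩ := Ideal.toCotangent_surjective _ z
  obtain ⟨c, hc⟩ := Ideal.mem_span_singleton'.mp (Ideal.Quotient.eq_zero_iff_mem.mp hb)
  subst hc
  rw [LinearMap.comp_apply, LinearMap.comp_apply, KaehlerDifferential.kerCotangentToTensor_toCotangent,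
    LinearMap.id_apply]
  have hlam : lam (1 ⊗ₜ KaehlerDifferential.D R B (c * h)) = algebraMap B A c := by
    rw [LinearMap.liftBaseChange_tmul, one_smul, LinearMap.comp_apply, Derivation.leibniz, map_add,
      LinearMap.smul_apply, map_smul, ← hv, LinearMap.smul_apply, map_smul, Algebra.linearMap_apply,
      smul_eq_mul, smul_eq_mul, smul_eq_mul, smul_eq_mul, map_add, map_mul, map_mul, map_mul, map_mul,
      show algebraMap B A h = 0 from h'.2, zero_mul, mul_zero, add_zero, ← mul_assoc,
      mul_comm (algebraMap B A (↑v⁻¹ : B)), mul_assoc, ← map_mul (algebraMap B A), Units.inv_mul,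
      map_one, mul_one]
  rw [LinearMap.restrictScalars_apply, hlam]
  change c • Ideal.toCotangent _ h' = _
  rw [← map_smul]
  exact congrArg _ (Subtype.ext (smul_eq_mul c h))

/-- Such an element is a nonzerodivisor. -/
theorem mem_nonZeroDivisors (μ : Ω[B⁄R] →ₗ[B] B) (hμ : IsUnit (μ (KaehlerDifferential.D R B h))) :
    h ∈ nonZeroDivisors B := by
  haveI : Algebra.FinitePresentation R B := inferInstance
  rw [mem_nonZeroDivisors_iff_right]
  intro x hx
  refine Module.eq_zero_of_localization_maximal (fun P _ => Localization.AtPrime P)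
    (fun P _ => Algebra.linearMap B (Localization.AtPrime P)) x (fun P hP => ?_)
  change algebraMap B (Localization.AtPrime P) x = 0
  have hzero : algebraMap B (Localization.AtPrime P) h * algebraMap B (Localization.AtPrime P) x = 0 := by
    rw [← map_mul, mul_comm, hx, map_zero]
  by_cases hhP : h ∈ P
  swap
  · exact (IsLocalization.map_units (Localization.AtPrime P) (⟨h, hhP⟩ : P.primeCompl)).mul_right_eq_zero.mp hzero
  let L := Localization.AtPrime P
  let J : Ideal L := (P.comap (algebraMap R B)).map (algebraMap R L)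
  -- `h` does not vanish on the fibre
  have hJ : algebraMap B L h ∉ J := by
    intro hm
    have hm' : algebraMap B L h ∈ ((P.comap (algebraMap R B)).map (algebraMap R B)).map (algebraMap B L) := by
      rwa [Ideal.map_map, ← IsScalarTower.algebraMap_eq]
    obtain ⟨s, hs⟩ : ∃ s : P.primeCompl, h * s ∈ (P.comap (algebraMap R B)).map (algebraMap R B) := by
      obtain ⟨⟨⟨j, hj⟩, s⟩, hjs⟩ := (IsLocalization.mem_map_algebraMap_iff P.primeCompl L).mp hm'
      rw [← map_mul] at hjs
      obtain ⟨t, ht⟩ := IsLocalization.exists_of_eq (M := P.primeCompl) hjs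
      refine ⟨t * s, ?_⟩
      have : h * ((t : B) * s) = t * j := by rw [← ht]; ring
      rw [Submonoid.coe_mul, this]
      exact Ideal.mul_mem_left _ _ hj
    have key : ∀ y ∈ (P.comap (algebraMap R B)).map (algebraMap R B),
        μ (KaehlerDifferential.D R B y) ∈ P := by
      intro y hy
      rw [Ideal.map] at hy
      induction hy using Submodule.span_induction with
      | mem y hy =>
        obtain ⟨r, -, rfl⟩ := hy
        rw [Derivation.map_algebraMap, map_zero]
        exact P.zero_mem
      | zero => simp
      | add a b _ _ ha hb => rw [map_add, map_add]; exact P.add_mem ha hb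
      | smul a y hy ha =>
        rw [smul_eq_mul, Derivation.leibniz, map_add, map_smul, map_smul]
        refine P.add_mem (P.mul_mem_left _ ha) (P.mul_mem_right _ ?_)
        have : (P.comap (algebraMap R B)).map (algebraMap R B) ≤ P := Ideal.map_comap_le
        exact this hy
    have := key _ hs
    rw [Derivation.leibniz, map_add, map_smul, map_smul, smul_eq_mul, smul_eq_mul] at this
    have h1 : (s : B) * μ (KaehlerDifferential.D R B h) ∈ P := by
      have := P.sub_mem this (P.mul_mem_right (μ (KaehlerDifferential.D R B (s : B))) hhP)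
      simpa using this
    rcases (hP.isPrime.mem_or_mem h1) with h2 | h2
    · exact s.2 h2
    · exact hP.ne_top (Ideal.eq_top_of_isUnit_mem _ h2 hμ)
  haveI : Module.Flat R L := Module.Flat.trans R B L
  haveI := GeomProp.isRegularLocalRing_fibLocRing_of_smooth R B P
  haveI : IsDomain (L ⧸ J) := RegLoc.isDomain (A := EGA4.FibLocRing R B P)
  have hinj := (InjFibre.atPrime (R := R) (S := B) (S' := L) (M := L) (N := L) P
    (LinearMap.mulLeft L (algebraMap B L h)) (fun y hy => by
      rw [smul_eq_mul, Ideal.mul_top] at hy ⊢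
      have := Ideal.Quotient.eq_zero_iff_mem.mpr hy
      rw [LinearMap.mulLeft_apply, map_mul] at this
      exact Ideal.Quotient.eq_zero_iff_mem.mp ((mul_eq_zero.mp this).resolve_left
        (fun h0 => hJ (Ideal.Quotient.eq_zero_iff_mem.mp h0))))).1
  exact hinj (by simpa using hzero)

/-- Locally around a prime where the differential of `h` does not vanish. -/
theorem exists_away (q : Ideal B) [q.IsPrime] (K : Type u) [CommRing K] [Algebra B K]
    (hK : ∀ b ∈ q, algebraMap B K b = 0) (hd : (1 : K) ⊗ₜ[B] KaehlerDifferential.D R B h ≠ 0) :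
    ∃ t ∉ q, ∀ (B' : Type u) [CommRing B'] [Algebra B B'] [Algebra R B'] [IsScalarTower R B B']
      [IsLocalization.Away t B'], algebraMap B B' h ∈ nonZeroDivisors B' ∧
      Algebra.Smooth R (B' ⧸ Ideal.span {algebraMap B B' h}) := by
  obtain ⟨μ, hμ⟩ := exists_functional q K hK _ hd
  refine ⟨μ (KaehlerDifferential.D R B h), hμ, fun B' _ _ _ _ _ => ?_⟩
  let t := μ (KaehlerDifferential.D R B h)
  haveI : Algebra.Smooth B B' := Algebra.Smooth.of_isLocalization_Away t
  haveI : Algebra.Smooth R B' := Algebra.Smooth.comp R B B'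
  have hu : ∀ x : Submonoid.powers t, IsUnit (algebraMap B (Module.End B B') x) := fun x => by
    rw [Module.End.isUnit_iff]
    convert (IsLocalization.map_units B' x).smul_bijective (β := B') using 1
    exact funext fun z => (algebraMap_smul B' (x : B) z).symm
  let μ₀ : Ω[B'⁄R] →ₗ[B] B' :=
    IsLocalizedModule.lift (Submonoid.powers t) (KaehlerDifferential.map R R B B')
      ((Algebra.linearMap B B').comp μ) hu
  let μ' : Ω[B'⁄R] →ₗ[B'] B' := μ₀.extendScalarsOfIsLocalization (Submonoid.powers t) B'
  have hμ' : μ' (KaehlerDifferential.D R B' (algebraMap B B' h)) = algebraMap B B' t := by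
    rw [← KaehlerDifferential.map_D R R B B']
    exact IsLocalizedModule.lift_apply (Submonoid.powers t) (KaehlerDifferential.map R R B B') _ hu _
  have hunit : IsUnit (μ' (KaehlerDifferential.D R B' (algebraMap B B' h))) := by
    rw [hμ']; exact IsLocalization.Away.algebraMap_isUnit t
  exact ⟨mem_nonZeroDivisors _ μ' hunit, smooth_quotient _ μ' hunit⟩

end Groth.Agent.SmoothDiv
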