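import Mathlib.RingTheory.Kaehler.Basic
import Mathlib.RingTheory.Smooth.Basic
import Mathlib.RingTheory.Nakayama
import Mathlib.RingTheory.LocalRing.ResidueField.Basic
import Mathlib.RingTheory.Noetherian.Defs

/-!
# A nonvanishing differential at a non-generic separable point of the fibre
-/

set_option autoImplicit false
set_option linter.style.haveILetI false

open TensorProduct IsLocalRing

namespace Groth.Agent.SmoothDiv

universe u

/-- A first order retraction `σ` onto the residue field turns `a ↦ a - σ a` into a derivation. -/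
theorem eq_zero_of_tmul_D_eq_zero {O A κ Q : Type u} [CommRing O] [CommRing A] [CommRing κ] [CommRing Q]
    [Algebra O A] [Algebra O κ] [Algebra A κ] [IsScalarTower O A κ] (p : A →+* Q) (σ : κ →+* Q)
    (hO : ∀ o, p (algebraMap O A o) = σ (algebraMap O κ o))
    (hsq : ∀ a b, (p a - σ (algebraMap A κ a)) * (p b - σ (algebraMap A κ b)) = 0)
    (h : A) (hh : algebraMap A κ h = 0) (hd : (1 : κ) ⊗ₜ[A] KaehlerDifferential.D O A h = 0) :
    p h = 0 := by
  letI : Algebra κ Q := σ.toAlgebra
  letI : Algebra A Q := (σ.comp (algebraMap A κ)).toAlgebra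
  letI : Algebra O Q := (σ.comp (algebraMap O κ)).toAlgebra
  haveI : IsScalarTower A κ Q := IsScalarTower.of_algebraMap_eq' rfl
  haveI : IsScalarTower O A Q := IsScalarTower.of_algebraMap_eq fun o => by
    change σ (algebraMap O κ o) = σ (algebraMap A κ (algebraMap O A o))
    rw [← IsScalarTower.algebraMap_apply]
  have hsc : ∀ (a : A) (q : Q), a • q = σ (algebraMap A κ a) * q := fun a q => Algebra.smul_def a q
  let l : A →ₗ[O] Q :=
    { toFun := fun a => p a - σ (algebraMap A κ a)
      map_add' := fun a b => by simp only [map_add]; ring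
      map_smul' := fun o a => by
        simp only [RingHom.id_apply, Algebra.smul_def, map_mul, hO, ← IsScalarTower.algebraMap_apply]
        change _ = σ (algebraMap O κ o) * _
        ring }
  let δ : Derivation O A Q := Derivation.mk' l fun a b => by
    change p (a * b) - σ (algebraMap A κ (a * b)) =
      a • (p b - σ (algebraMap A κ b)) + b • (p a - σ (algebraMap A κ a))
    rw [hsc, hsc, map_mul, map_mul, map_mul]
    linear_combination hsq a b
  have h1 := congrArg (LinearMap.liftBaseChange κ δ.liftKaehlerDifferential) hd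
  rw [map_zero, LinearMap.liftBaseChange_tmul, one_smul, Derivation.liftKaehlerDifferential_comp_D] at h1
  change p h - σ (algebraMap A κ h) = 0 at h1
  rwa [hh, map_zero, sub_zero] at h1

/-- Some element of the maximal ideal has nonvanishing differential. -/
theorem exists_tmul_D_ne_zero {O A F : Type u} [CommRing O] [IsLocalRing O] [CommRing A] [IsLocalRing A]
    [Algebra O A] [IsLocalHom (algebraMap O A)] [CommRing F] [IsLocalRing F] [IsNoetherianRing F]
    (q : A →+* F) (hq : Function.Surjective q) (hqO : ∀ o ∈ maximalIdeal O, q (algebraMap O A o) = 0)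
    (hsep : Algebra.FormallySmooth (ResidueField O) (ResidueField A)) (hF : maximalIdeal F ≠ ⊥) :
    ∃ h ∈ maximalIdeal A, (1 : ResidueField A) ⊗ₜ[A] KaehlerDifferential.D O A h ≠ 0 := by
  by_contra hc
  push Not at hc
  let J : Ideal A := (maximalIdeal O).map (algebraMap O A) ⊔ maximalIdeal A ^ 2
  have hJ : J ≤ maximalIdeal A := sup_le
    (Ideal.map_le_iff_le_comap.mpr fun o ho => map_nonunit (algebraMap O A) o ho)
    (Ideal.pow_le_self two_ne_zero)
  let k := ResidueField O
  let κ := ResidueField A
  have hkill : ∀ o ∈ maximalIdeal O, (Ideal.Quotient.mk J).comp (algebraMap O A) o = 0 := fun o ho =>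
    Ideal.Quotient.eq_zero_iff_mem.mpr (Ideal.mem_sup_left (Ideal.mem_map_of_mem _ ho))
  letI : Algebra (ResidueField O) (A ⧸ J) :=
    (Ideal.Quotient.lift (maximalIdeal O) ((Ideal.Quotient.mk J).comp (algebraMap O A)) hkill).toAlgebra
  let g : (A ⧸ J) →ₐ[ResidueField O] ResidueField A :=
    { Ideal.Quotient.lift J (residue A) (fun a ha => (residue_eq_zero_iff a).mpr (hJ ha)) with
      commutes' := fun z => by
        obtain ⟨o, rfl⟩ := residue_surjective (R := O) z
        rfl }
  have hg : Function.Surjective g := fun z => by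
    obtain ⟨a, rfl⟩ := residue_surjective (R := A) z
    exact ⟨Ideal.Quotient.mk J a, rfl⟩
  have hker : ∀ z w, g z = 0 → g w = 0 → z * w = 0 := by
    intro z w hz hw
    obtain ⟨a, rfl⟩ := Ideal.Quotient.mk_surjective z
    obtain ⟨b, rfl⟩ := Ideal.Quotient.mk_surjective w
    rw [← map_mul, Ideal.Quotient.eq_zero_iff_mem]
    refine Ideal.mem_sup_right ?_
    rw [pow_two]
    exact Ideal.mul_mem_mul ((residue_eq_zero_iff a).mp hz) ((residue_eq_zero_iff b).mp hw)
  have hnil : IsNilpotent (RingHom.ker (g : (A ⧸ J) →+* ResidueField A)) :=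
    ⟨2, by
      rw [pow_two]
      exact le_bot_iff.mp (Ideal.mul_le.mpr fun z hz w hw => (Submodule.mem_bot _).mpr (hker z w hz hw))⟩
  let σ := Algebra.FormallySmooth.liftOfSurjective (AlgHom.id _ (ResidueField A)) g hg hnil
  have hσ : ∀ z, g (σ z) = z := Algebra.FormallySmooth.liftOfSurjective_apply _ g hg hnil
  have hmJ : maximalIdeal A ≤ J := by
    intro h hh
    rw [← Ideal.Quotient.eq_zero_iff_mem]
    refine eq_zero_of_tmul_D_eq_zero (O := O) (κ := ResidueField A) (Ideal.Quotient.mk J) σ.toRingHom
      (fun o => ?_) (fun a b => hker _ _ ?_ ?_) h ((residue_eq_zero_iff h).mpr hh) (hc h hh)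
    · exact (σ.commutes (residue O o)).symm
    · rw [map_sub]; exact sub_eq_zero.mpr (hσ _).symm
    · rw [map_sub]; exact sub_eq_zero.mpr (hσ _).symm
  refine hF (Submodule.eq_bot_of_le_smul_of_le_jacobson_bot (maximalIdeal F) (maximalIdeal F)
    (IsNoetherian.noetherian _) ?_ (IsLocalRing.maximalIdeal_le_jacobson _))
  haveI := Ideal.comap_isMaximal_of_surjective q hq (K := maximalIdeal F)
  have hmax : (maximalIdeal F).comap q = maximalIdeal A := IsLocalRing.eq_maximalIdeal inferInstance
  have hmap : (maximalIdeal A).map q = maximalIdeal F := by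
    rw [← hmax, Ideal.map_comap_of_surjective q hq]
  rw [smul_eq_mul]
  calc maximalIdeal F = (maximalIdeal A).map q := hmap.symm
    _ ≤ J.map q := Ideal.map_mono hmJ
    _ ≤ maximalIdeal F * maximalIdeal F := by
      rw [Ideal.map_sup, Ideal.map_map, Ideal.map_pow, hmap, pow_two]
      refine sup_le (Ideal.map_le_iff_le_comap.mpr fun o ho => ?_) le_rfl
      rw [Ideal.mem_comap, RingHom.comp_apply, hqO o ho]
      exact zero_mem _

end Groth.Agent.SmoothDiv
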